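import Groth.Agent.PopescuLib.DVRExcellent
import Groth.Agent.CompleteNagata.Unramified
import Groth.Agent.Hensel.IntegralStrict
import Mathlib.FieldTheory.KummerPolynomial
import Mathlib.FieldTheory.IsAlgClosed.AlgebraicClosure
import Mathlib.FieldTheory.PurelyInseparable.Basic
import Mathlib.RingTheory.LocalRing.Quotient

/-! Extensions of henselian discrete valuation rings with perfect residue field. -/

set_option linter.style.haveILetI false

universe u

open Polynomial IsLocalRing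

namespace Groth.Agent.H1PerfExt

variable (R : Type u) [CommRing R] [IsDomain R] [IsDiscreteValuationRing R]
  (K : Type u) [Field K] [Algebra R K] [IsFractionRing R K]
  (Kb : Type u) [Field Kb] [Algebra R Kb] [Algebra K Kb] [IsScalarTower R K Kb]

/-- The integral elements of `L`. -/
noncomputable def O (L : IntermediateField K Kb) : Subalgebra R Kb :=
  integralClosure R Kb ⊓ L.toSubalgebra.restrictScalars R

variable {R K Kb}

theorem mem_O {L : IntermediateField K Kb} {x : Kb} : x ∈ O R K Kb L ↔ IsIntegral R x ∧ x ∈ L := Iff.rfl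

variable (K) in
/-- Unramified with purely inseparable residue extension. -/
def Good (ϖ : R) (q : ℕ) (L : IntermediateField K Kb) : Prop :=
  ∀ x ∈ O R K Kb L, (x⁻¹ ∈ O R K Kb L ∧ x ≠ 0 ∨ ∃ z ∈ O R K Kb L, x = algebraMap R Kb ϖ * z) ∧
    ∃ (m : ℕ) (z : R), ∃ w ∈ O R K Kb L, algebraMap R Kb z - x ^ q ^ m = algebraMap R Kb ϖ * w

variable {ϖ : R} {q : ℕ}

include K in
theorem inj : Function.Injective (algebraMap R Kb) := by
  rw [IsScalarTower.algebraMap_eq R K Kb]
  exact (algebraMap K Kb).injective.comp (IsFractionRing.injective R K)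

theorem good_bot (hϖ : Irreducible ϖ) : Good K ϖ q (⊥ : IntermediateField K Kb) := by
  intro x hx
  obtain ⟨hi, hm⟩ := mem_O.1 hx
  obtain ⟨k, rfl⟩ := IntermediateField.mem_bot.1 hm
  obtain ⟨r, rfl⟩ := IsIntegrallyClosed.isIntegral_iff.1 ((isIntegral_algebraMap_iff (algebraMap K Kb).injective).1 hi)
  rw [← IsScalarTower.algebraMap_apply]
  have hmem : ∀ s : R, algebraMap R Kb s ∈ O R K Kb ⊥ := fun s => (O R K Kb ⊥).algebraMap_mem s
  refine ⟨?_, 0, r, 0, (O R K Kb ⊥).zero_mem, by simp⟩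
  by_cases hr : IsUnit r
  · left
    obtain ⟨u, rfl⟩ := hr
    refine ⟨?_, (map_ne_zero_iff _ (inj (K := K))).2 u.ne_zero⟩
    rw [← map_units_inv (algebraMap R Kb) u]
    exact hmem _
  · right
    have : r ∈ maximalIdeal R := hr
    rw [hϖ.maximalIdeal_eq, Ideal.mem_span_singleton] at this
    obtain ⟨s, rfl⟩ := this
    exact ⟨_, hmem s, map_mul _ _ _⟩

theorem good_union (c : Set (IntermediateField K Kb)) (hc : IsChain (· ≤ ·) c) (hne : c.Nonempty)
    (h : ∀ L ∈ c, Good K ϖ q L) : Good K ϖ q (sSup c) := by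
  haveI := hne.to_subtype
  intro x hx
  obtain ⟨hi, hm⟩ := mem_O.1 hx
  rw [sSup_eq_iSup', ← SetLike.mem_coe, IntermediateField.coe_iSup_of_directed hc.directed, Set.mem_iUnion] at hm
  obtain ⟨⟨L, hL⟩, hxL⟩ := hm
  have hle : O R K Kb L ≤ O R K Kb (sSup c) := fun y hy =>
    mem_O.2 ⟨(mem_O.1 hy).1, (le_sSup hL : L ≤ sSup c) (mem_O.1 hy).2⟩
  obtain ⟨h1, m, z, w, hw, h2⟩ := h L hL x (mem_O.2 ⟨hi, hxL⟩)
  exact ⟨h1.imp (fun h' => ⟨hle h'.1, h'.2⟩) (fun ⟨z, hz, e⟩ => ⟨z, hle hz, e⟩), m, z, w, hle hw, h2⟩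

include K in
theorem not_isUnit_uniformizer (hϖ : Irreducible ϖ) {z : Kb} (hz : IsIntegral R z) :
    algebraMap R Kb ϖ * z ≠ 1 := fun h => hϖ.not_isUnit <| by
  have h0 : algebraMap R Kb ϖ ≠ 0 := (map_ne_zero_iff _ (inj (K := K))).2 hϖ.ne_zero
  have hk : z = algebraMap K Kb (algebraMap R K ϖ)⁻¹ := by
    rw [map_inv₀, ← IsScalarTower.algebraMap_apply]
    exact eq_inv_of_mul_eq_one_right h
  rw [hk, isIntegral_algebraMap_iff (algebraMap K Kb).injective] at hz
  obtain ⟨s, hs⟩ := IsIntegrallyClosed.isIntegral_iff.1 hz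
  exact IsUnit.of_mul_eq_one (a := ϖ) s (IsFractionRing.injective R K (by
    rw [map_mul, map_one, hs, mul_inv_cancel₀ ((map_ne_zero_iff _ (IsFractionRing.injective R K)).2 hϖ.ne_zero)]))

section good

variable {L : IntermediateField K Kb}

theorem irreducible_O (hϖ : Irreducible ϖ) (hL : Good K ϖ q L) :
    Irreducible (algebraMap R (O R K Kb L) ϖ) := by
  have hnu : ¬IsUnit (algebraMap R (O R K Kb L) ϖ) := fun ⟨u, hu⟩ => by
    refine not_isUnit_uniformizer (K := K) hϖ (mem_O.1 (↑u⁻¹ : O R K Kb L).2).1 ?_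
    have := congrArg Subtype.val u.mul_inv
    rw [hu] at this
    exact this
  refine ⟨hnu, fun a b hab => ?_⟩
  by_contra hh
  push Not at hh
  have key : ∀ y : O R K Kb L, ¬IsUnit y → ∃ z : O R K Kb L, y = algebraMap R (O R K Kb L) ϖ * z := fun y hy => by
    rcases (hL y y.2).1 with ⟨h1, h0⟩ | ⟨z, hz, h1⟩
    · exact absurd (IsUnit.of_mul_eq_one (a := y) ⟨_, h1⟩ (Subtype.ext (mul_inv_cancel₀ h0))) hy
    · exact ⟨⟨z, hz⟩, Subtype.ext h1⟩
  obtain ⟨z, rfl⟩ := key a hh.1
  obtain ⟨z', rfl⟩ := key b hh.2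
  have h0 : algebraMap R (O R K Kb L) ϖ ≠ 0 := fun h =>
    hϖ.ne_zero (inj (K := K) ((congrArg Subtype.val h).trans (map_zero _).symm))
  refine hnu (IsUnit.of_mul_eq_one (z * z') (mul_left_cancel₀ h0 ?_))
  rw [mul_one]
  conv_rhs => rw [hab]
  ring

theorem maximalIdeal_O [IsLocalRing (O R K Kb L)] (hϖ : Irreducible ϖ) (hL : Good K ϖ q L) :
    maximalIdeal (O R K Kb L) = Ideal.span {algebraMap R (O R K Kb L) ϖ} := by
  refine le_antisymm (fun x hx => ?_) (Ideal.span_le.2 (Set.singleton_subset_iff.2 (irreducible_O hϖ hL).not_isUnit))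
  rcases (hL x x.2).1 with ⟨h1, h0⟩ | ⟨z, hz, h1⟩
  · exact absurd (IsUnit.of_mul_eq_one (a := x) ⟨_, h1⟩ (Subtype.ext (mul_inv_cancel₀ h0))) hx
  · exact Ideal.mem_span_singleton.2 ⟨⟨z, hz⟩, Subtype.ext h1⟩

theorem isDVR_O (hϖ : Irreducible ϖ) (hL : Good K ϖ q L) : IsDiscreteValuationRing (O R K Kb L) := by
  let Om := O R K Kb L
  let p := algebraMap R Om ϖ
  have hinj : Function.Injective (algebraMap R Om) := fun a b h => inj (K := K) (congrArg Subtype.val h)
  refine IsDiscreteValuationRing.ofHasUnitMulPowIrreducibleFactorization ⟨p, irreducible_O hϖ hL, fun {x} hx => ?_⟩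
  haveI : Algebra.IsIntegral R Om := ⟨fun y => (isIntegral_algHom_iff Om.val Subtype.val_injective).1 (mem_O.1 y.2).1⟩
  obtain ⟨a, ha, hxa⟩ : ∃ a : R, a ≠ 0 ∧ x ∣ algebraMap R Om a := by
    obtain ⟨y, hy, hy'⟩ : ∃ y ∈ (Ideal.span {x}).comap (algebraMap R Om), y ≠ 0 :=
      (Submodule.ne_bot_iff _).1 (Ideal.comap_ne_bot_of_integral_mem hx (Ideal.mem_span_singleton_self x)
        (Algebra.IsIntegral.isIntegral x))
    exact ⟨y, hy', Ideal.mem_span_singleton.1 hy⟩
  obtain ⟨n, hn⟩ := IsDiscreteValuationRing.associated_pow_irreducible ha hϖ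
  have hb : ¬ p ^ (n + 1) ∣ x := fun h => by
    obtain ⟨z, hz⟩ := h.trans hxa
    obtain ⟨v, hv⟩ := hn
    rw [← map_pow] at hz
    have hz' : algebraMap R Om (ϖ ^ n) = algebraMap R Om (ϖ ^ n) * (p * (z * algebraMap R Om v)) := by
      conv_lhs => rw [← hv, map_mul, hz, pow_succ, map_mul]
      ring
    have h1 : p * (z * algebraMap R Om v) = 1 :=
      mul_left_cancel₀ ((map_ne_zero_iff _ hinj).2 (pow_ne_zero _ hϖ.ne_zero)) (by rw [mul_one]; exact hz'.symm)
    exact (irreducible_O hϖ hL).not_isUnit (IsUnit.of_mul_eq_one _ h1)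
  classical
  have hex : ∃ j, ¬ p ^ j ∣ x := ⟨n + 1, hb⟩
  obtain ⟨j, hj⟩ : ∃ j, Nat.find hex = j + 1 := ⟨Nat.find hex - 1, (Nat.succ_pred_eq_of_pos <|
    Nat.pos_of_ne_zero fun h0 => Nat.find_spec hex (by rw [h0]; simp)).symm⟩
  obtain ⟨v, rfl⟩ : p ^ j ∣ x := by
    by_contra h'
    have := Nat.find_min' hex h'
    omega
  refine ⟨j, associated_mul_unit_right _ _ ?_⟩
  rcases (hL v v.2).1 with ⟨h1, h0⟩ | ⟨z, hz, h1⟩
  · exact IsUnit.of_mul_eq_one (a := v) ⟨_, h1⟩ (Subtype.ext (mul_inv_cancel₀ h0))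
  · refine absurd ⟨⟨z, hz⟩, ?_⟩ (hj ▸ Nat.find_spec hex)
    rw [pow_succ, mul_assoc]
    exact congrArg (p ^ j * ·) (Subtype.ext h1)

end good

/-- An integral element whose inverse lies in a subalgebra lies in it. -/
theorem mem_of_inv {A F : Type*} [CommRing A] [Field F] [Algebra A F] {T : Subalgebra A F} {x : F}
    (hx : IsIntegral A x) (h : x⁻¹ ∈ T) : x ∈ T := by
  rcases eq_or_ne x 0 with rfl | h0
  · exact zero_mem _
  obtain ⟨f, hf, hfx⟩ := hx
  rw [← aeval_def, hf.as_sum] at hfx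
  simp only [map_add, map_pow, aeval_X, map_sum, map_mul, aeval_C] at hfx
  obtain ⟨m, hm⟩ : ∃ m, f.natDegree = m + 1 := ⟨f.natDegree - 1, by
    have : f.natDegree ≠ 0 := fun h' => by simp [h'] at hfx
    omega⟩
  rw [hm, add_eq_zero_iff_eq_neg] at hfx
  have e : x = -(∑ i ∈ Finset.range (m + 1), algebraMap A F (f.coeff i) * (x⁻¹) ^ (m - i)) := by
    have := congrArg (fun z => z * (x⁻¹) ^ m) hfx
    simp only [neg_mul, Finset.sum_mul] at this
    rw [pow_succ', mul_assoc, ← mul_pow, mul_inv_cancel₀ h0, one_pow, mul_one] at this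
    refine this.trans (congrArg Neg.neg (Finset.sum_congr rfl fun i hi => ?_))
    rw [mul_assoc, ← Nat.sub_add_cancel (Nat.le_of_lt_succ (Finset.mem_range.1 hi)), pow_add,
      Nat.sub_add_cancel (Nat.le_of_lt_succ (Finset.mem_range.1 hi)), ← mul_assoc (x ^ i),
      mul_comm (x ^ i), mul_assoc, ← mul_pow, mul_inv_cancel₀ h0, one_pow, mul_one]
  rw [e]
  exact T.neg_mem (T.sum_mem fun i _ => T.mul_mem (T.algebraMap_mem _) (T.pow_mem h _))

/-- Adjoining a `q`-th root of a unit whose residue has none. -/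
theorem exists_bigger [HenselianLocalRing R] [IsAlgClosed Kb] [Algebra.IsAlgebraic K Kb]
    (hϖ : Irreducible ϖ) (hq : q.Prime) [ExpChar (ResidueField R) q] {L : IntermediateField K Kb} (hL : Good K ϖ q L)
    (y : Kb) (hy : y ∈ O R K Kb L) (hno : ∀ z ∈ O R K Kb L, ∀ w ∈ O R K Kb L, z ^ q - y ≠ algebraMap R Kb ϖ * w) :
    ∃ L', L < L' ∧ Good K ϖ q L' := by
  let Om := O R K Kb L
  let π₀ : Kb := algebraMap R Kb ϖ
  haveI := isDVR_O hϖ hL
  haveI : IsScalarTower R Om Kb := IsScalarTower.of_algebraMap_eq fun _ => rfl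
  have hmax := maximalIdeal_O hϖ hL
  haveI : Algebra.IsIntegral R Om := ⟨fun z => (isIntegral_algHom_iff Om.val Subtype.val_injective).1 (mem_O.1 z.2).1⟩
  obtain ⟨α, hα⟩ := IsAlgClosed.exists_pow_nat_eq y hq.pos
  have hαi : IsIntegral R α := IsIntegral.of_pow hq.pos (hα ▸ (mem_O.1 hy).1)
  let L' := L ⊔ IntermediateField.adjoin K {α}
  let T : Subalgebra Om Kb := Algebra.adjoin Om {α}
  haveI hTi : Algebra.IsIntegral R T := by
    haveI : Algebra.IsIntegral Om T := ⟨fun z => (isIntegral_algHom_iff T.val Subtype.val_injective).1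
      (adjoin_le_integralClosure (hαi.tower_top) z.2)⟩
    haveI : IsScalarTower R Om T := IsScalarTower.of_algebraMap_eq fun _ => rfl
    exact Algebra.IsIntegral.trans Om
  haveI : IsLocalRing T := Groth.Agent.Hensel.isLocalRing_of_isIntegral_domain R T
  let p : T := algebraMap R T ϖ
  have hp : ¬IsUnit p := fun ⟨u, hu⟩ => by
    refine not_isUnit_uniformizer (K := K) hϖ (z := ((↑u⁻¹ : T) : Kb))
      ((isIntegral_algHom_iff (T.val.restrictScalars R) Subtype.val_injective).2 (hTi.isIntegral _)) ?_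
    have := congrArg Subtype.val u.mul_inv
    rw [hu] at this
    exact this
  -- residue polynomial
  let res := IsLocalRing.residue Om
  let yO : Om := ⟨y, hy⟩
  have hirr : Irreducible (X ^ q - C (res yO)) := X_pow_sub_C_irreducible_of_prime hq fun b hb => by
    obtain ⟨z, rfl⟩ := IsLocalRing.residue_surjective b
    rw [← map_pow, ← sub_eq_zero, ← map_sub, IsLocalRing.residue_eq_zero_iff, hmax, Ideal.mem_span_singleton] at hb
    obtain ⟨w, hw⟩ := hb
    exact hno z z.2 w w.2 (congrArg Subtype.val hw)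
  have hlift : ∀ g : Om[X], g.map res = 0 → p ∣ aeval (⟨α, Algebra.subset_adjoin rfl⟩ : T) g := fun g hg => by
    have hd : C (algebraMap R Om ϖ) ∣ g := (Polynomial.C_dvd_iff_dvd_coeff _ _).2 fun i => by
      have := congrArg (fun f => f.coeff i) hg
      simp only [coeff_map, coeff_zero] at this
      rwa [IsLocalRing.residue_eq_zero_iff, hmax, Ideal.mem_span_singleton] at this
    obtain ⟨g', rfl⟩ := hd
    rw [map_mul, aeval_C]
    exact Dvd.intro _ rfl
  let αT : T := ⟨α, Algebra.subset_adjoin rfl⟩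
  have hαT : aeval αT (X ^ q - C yO) = 0 := Subtype.ext (by
    simp only [map_sub, map_pow, aeval_X, aeval_C]
    show α ^ q - y = 0
    rw [hα, sub_self])
  have hdich : ∀ x : T, IsUnit x ∨ p ∣ x := by
    intro x
    obtain ⟨g, hg⟩ : ∃ g : Om[X], aeval αT g = x := by
      obtain ⟨g, hg⟩ : ∃ g : Om[X], aeval α g = (x : Kb) := by
        simpa [T, Algebra.adjoin_singleton_eq_range_aeval] using x.2
      exact ⟨g, Subtype.ext ((Polynomial.aeval_algHom_apply T.val αT g).symm.trans hg)⟩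
    subst hg
    rcases em (IsCoprime (X ^ q - C (res yO)) (g.map res)) with h | h
    · left
      obtain ⟨a, b, hab⟩ := h
      obtain ⟨a, rfl⟩ := Polynomial.map_surjective res IsLocalRing.residue_surjective a
      obtain ⟨b, rfl⟩ := Polynomial.map_surjective res IsLocalRing.residue_surjective b
      obtain ⟨t, ht⟩ := hlift (a * (X ^ q - C yO) + b * g - 1) (by simp [hab])
      have hb' : aeval αT b * aeval αT g = 1 + p * t := by
        rw [← ht, map_sub, map_add, map_mul, map_mul, map_one, hαT]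
        ring
      refine (IsUnit.mul_iff (x := aeval αT b) |>.1 ?_).2
      rw [hb']
      by_contra hu
      exact (IsLocalRing.maximalIdeal.isMaximal T).ne_top ((Ideal.eq_top_iff_one _).2 (by
        simpa using Ideal.sub_mem _ (show 1 + p * t ∈ maximalIdeal T from hu)
          (Ideal.mul_mem_right t _ (show p ∈ maximalIdeal T from hp))))
    · right
      obtain ⟨h', hh'⟩ := not_not.1 (mt hirr.coprime_iff_not_dvd.2 h)
      obtain ⟨h', rfl⟩ := Polynomial.map_surjective res IsLocalRing.residue_surjective h'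
      have := hlift (g - (X ^ q - C yO) * h') (by simp [hh'])
      rwa [map_sub, map_mul, hαT, zero_mul, sub_zero] at this
  -- the integral elements of `L'`
  have hπ0 : π₀ ≠ 0 := (map_ne_zero_iff _ (inj (K := K))).2 hϖ.ne_zero
  have hTO : ∀ x : T, (x : Kb) ∈ O R K Kb L' := fun x => mem_O.2
    ⟨(isIntegral_algHom_iff (T.val.restrictScalars R) Subtype.val_injective).2 (hTi.isIntegral x), by
      refine Algebra.adjoin_induction (p := fun z _ => z ∈ L') (fun z hz => ?_) (fun z => ?_) (fun _ _ _ _ ha hb => L'.add_mem ha hb) (fun _ _ _ _ ha hb => L'.mul_mem ha hb) x.2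
      · rw [Set.mem_singleton_iff] at hz
        rw [hz]
        exact (le_sup_right : _ ≤ L') (IntermediateField.mem_adjoin_simple_self K α)
      · exact (le_sup_left : L ≤ L') (mem_O.1 z.2).2⟩
  have hdiv : ∀ x : Kb, IsIntegral R x → π₀ * x ∈ T → x ∈ T := by
    intro x hx hxT
    rcases hdich ⟨_, hxT⟩ with ⟨u, hu⟩ | ⟨z, hz⟩
    · have hx0 : x ≠ 0 := fun h => u.ne_zero (hu.trans (Subtype.ext (by simp [h])))
      have hinv : x⁻¹ ∈ T := by
        have h1 : ((↑u⁻¹ : T) : Kb) * (π₀ * x) = 1 := by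
          have := congrArg Subtype.val u.inv_mul
          rw [hu] at this
          exact this
        rw [show x⁻¹ = (↑u⁻¹ : T) * π₀ from inv_eq_of_mul_eq_one_left (by linear_combination h1)]
        exact mul_mem (Subtype.coe_prop _) (T.algebraMap_mem (algebraMap R Om ϖ))
      exact mem_of_inv hx.tower_top hinv
    · rw [show x = z from mul_left_cancel₀ hπ0 (congrArg Subtype.val hz)]
      exact z.2
  have hOT : ∀ x ∈ O R K Kb L', x ∈ T := by
    intro x hx
    obtain ⟨hi, hm⟩ := mem_O.1 hx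
    have hLr : ∀ z ∈ L, ∃ r : R, r ≠ 0 ∧ r • z ∈ T := fun z hz => by
      obtain ⟨⟨r, hr⟩, h⟩ := (Algebra.IsIntegral.isIntegral (R := K) z).exists_multiple_integral_of_isLocalization
        (nonZeroDivisors R) z
      refine ⟨r, nonZeroDivisors.ne_zero hr, ?_⟩
      have hmem : r • z ∈ O R K Kb L := mem_O.2 ⟨h, by
        rw [Algebra.smul_def, IsScalarTower.algebraMap_apply R K Kb]
        exact L.mul_mem (L.algebraMap_mem _) hz⟩
      exact T.algebraMap_mem (⟨r • z, hmem⟩ : Om)
    have hm' : x ∈ Algebra.adjoin L ({α} : Set Kb) := by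
      rw [← IntermediateField.adjoin_simple_toSubalgebra_of_isAlgebraic
        ((Algebra.IsAlgebraic.isAlgebraic (R := K) α).tower_top L)]
      refine (?_ : L' ≤ (IntermediateField.adjoin L {α}).restrictScalars K) hm
      exact sup_le (fun z (hz : z ∈ L) => IntermediateField.algebraMap_mem (IntermediateField.adjoin L {α}) (⟨z, hz⟩ : L))
        (IntermediateField.adjoin_simple_le_iff.2 (IntermediateField.mem_adjoin_simple_self L α))
    obtain ⟨r, hr, hrx⟩ : ∃ r : R, r ≠ 0 ∧ r • x ∈ T := by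
      clear hi hm hx
      induction hm' using Algebra.adjoin_induction with
      | mem z hz => exact ⟨1, one_ne_zero, by rw [one_smul]; exact Algebra.subset_adjoin hz⟩
      | algebraMap z => exact hLr z z.2
      | add a b _ _ ha hb =>
        obtain ⟨r, hr, hra⟩ := ha
        obtain ⟨s, hs, hsb⟩ := hb
        refine ⟨r * s, mul_ne_zero hr hs, ?_⟩
        rw [smul_add, mul_comm r s, mul_smul, mul_smul, smul_comm s r b]
        exact add_mem ((T.restrictScalars R).smul_mem hra s) ((T.restrictScalars R).smul_mem hsb r)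
      | mul a b _ _ ha hb =>
        obtain ⟨r, hr, hra⟩ := ha
        obtain ⟨s, hs, hsb⟩ := hb
        refine ⟨r * s, mul_ne_zero hr hs, ?_⟩
        rw [← smul_mul_smul_comm]
        exact mul_mem hra hsb
    obtain ⟨n, v, hv⟩ := IsDiscreteValuationRing.associated_pow_irreducible hr hϖ
    have hpow : π₀ ^ n * x ∈ T := by
      rw [← map_pow, ← hv, map_mul, mul_comm (algebraMap R Kb r), mul_assoc, ← Algebra.smul_def r]
      exact mul_mem (T.algebraMap_mem (algebraMap R Om v)) hrx
    clear hv hrx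
    induction n with
    | zero => simpa using hpow
    | succ n ih =>
      refine ih (hdiv _ ?_ (by rw [← mul_assoc, ← pow_succ']; exact hpow))
      exact (isIntegral_algebraMap.pow n).mul hi
  refine ⟨L', lt_of_le_of_ne le_sup_left fun h => ?_, fun x hx => ⟨?_, ?_⟩⟩
  · have hαL : α ∈ L := h ▸ (le_sup_right : _ ≤ L') (IntermediateField.mem_adjoin_simple_self K α)
    exact hno α (mem_O.2 ⟨hαi, hαL⟩) 0 (zero_mem _) (by rw [hα, mul_zero, sub_self])
  · rcases hdich ⟨x, hOT x hx⟩ with ⟨u, hu⟩ | ⟨z, hz⟩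
    · left
      have hux : x * ((↑u⁻¹ : T) : Kb) = 1 := by
        have := congrArg Subtype.val u.mul_inv
        rw [hu] at this
        exact this
      refine ⟨?_, left_ne_zero_of_mul_eq_one hux⟩
      rw [← eq_inv_of_mul_eq_one_right hux]
      exact hTO _
    · exact Or.inr ⟨z, hTO z, congrArg Subtype.val hz⟩
  · -- perfect closure
    let Q := T ⧸ Ideal.span {p}
    haveI : (Ideal.span {p}).IsMaximal := by
      have : Ideal.span {p} = maximalIdeal T := le_antisymm (Ideal.span_le.2 (Set.singleton_subset_iff.2 hp))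
        fun z hz => Ideal.mem_span_singleton.2 ((hdich z).resolve_left hz)
      rw [this]; infer_instance
    letI := Ideal.Quotient.field (Ideal.span {p})
    let ψ : ResidueField R →+* Q := Ideal.Quotient.lift (maximalIdeal R)
      ((Ideal.Quotient.mk _).comp (algebraMap R T)) fun r hr => by
        rw [hϖ.maximalIdeal_eq, Ideal.mem_span_singleton] at hr
        obtain ⟨s, rfl⟩ := hr
        exact Ideal.Quotient.eq_zero_iff_mem.2 (Ideal.mem_span_singleton.2 ⟨algebraMap R T s, map_mul _ _ _⟩)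
    haveI : ExpChar Q q := expChar_of_injective_ringHom ψ.injective q
    let Pp : Q → Prop := fun a => ∃ (m : ℕ) (z : R), Ideal.Quotient.mk _ (algebraMap R T z) = a ^ q ^ m
    have hP : ∀ a b, Pp a → Pp b → Pp (a + b) ∧ Pp (a * b) := fun a b ⟨m, z, hz⟩ ⟨n, w, hw⟩ =>
      ⟨⟨m + n, z ^ q ^ n + w ^ q ^ m, by
        rw [map_add, map_add, map_pow, map_pow, map_pow, map_pow, hz, hw, ← pow_mul, ← pow_mul, ← pow_add,
          ← pow_add, add_comm n m, add_pow_expChar_pow]⟩,
      ⟨m + n, z ^ q ^ n * w ^ q ^ m, by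
        rw [map_mul, map_mul, map_pow, map_pow, map_pow, map_pow, hz, hw, ← pow_mul, ← pow_mul, ← pow_add,
          ← pow_add, add_comm n m, mul_pow]⟩⟩
    have hbase : ∀ z : Om, Pp (Ideal.Quotient.mk _ (algebraMap Om T z)) := fun z => by
      obtain ⟨-, m, r, w, hw, h⟩ := hL z z.2
      refine ⟨m, r, ?_⟩
      rw [← map_pow, Ideal.Quotient.mk_eq_mk_iff_sub_mem, Ideal.mem_span_singleton]
      exact ⟨algebraMap Om T ⟨w, hw⟩, Subtype.ext h⟩
    have hall : ∀ (z : Kb) (hz : z ∈ T), Pp (Ideal.Quotient.mk _ ⟨z, hz⟩) := fun z hz => by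
      induction hz using Algebra.adjoin_induction with
      | mem z hz =>
        obtain rfl := Set.mem_singleton_iff.1 hz
        obtain ⟨m, r, h⟩ := hbase yO
        refine ⟨m + 1, r, ?_⟩
        rw [h, pow_succ', pow_mul, ← map_pow (Ideal.Quotient.mk (Ideal.span {p})) (⟨z, _⟩ : T) q]
        congr 2
        exact Subtype.ext hα.symm
      | algebraMap z => exact hbase z
      | add a b _ _ ha hb => exact (hP _ _ ha hb).1
      | mul a b _ _ ha hb => exact (hP _ _ ha hb).2
    obtain ⟨m, z, h⟩ := hall x (hOT x hx)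
    rw [← map_pow, Ideal.Quotient.mk_eq_mk_iff_sub_mem, Ideal.mem_span_singleton] at h
    obtain ⟨w, hw⟩ := h
    exact ⟨m, z, w, hTO w, congrArg Subtype.val hw⟩

end Groth.Agent.H1PerfExt

namespace Groth.Agent.H1PerfExt

open IsLocalRing

/-- The extension with perfect residue field. -/
theorem exists_extension (R : Type u) [CommRing R] [IsDomain R] [IsDiscreteValuationRing R] [HenselianLocalRing R]
    (hR : EGA4.IsExcellent R) :
    ∃ (R' : Type u) (_ : CommRing R') (_ : IsDomain R') (_ : IsDiscreteValuationRing R')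
      (_ : HenselianLocalRing R') (_ : Algebra R R'),
      Function.Injective (algebraMap R R') ∧
      Ideal.map (algebraMap R R') (maximalIdeal R) = maximalIdeal R' ∧
      (∀ s : Finset R', ∃ S : Subalgebra R R', (↑s : Set R') ⊆ ↑S ∧ Module.Finite R S ∧ Module.Free R S ∧
        ∃ m : ℕ, Module.finrank R S = ringExpChar (ResidueField R) ^ m) ∧
      (∀ y : R', ∃ z : R', z ^ ringExpChar (ResidueField R) - y ∈ maximalIdeal R') ∧
      (∀ y : R', ∃ (m : ℕ) (z : R),
        algebraMap R R' z - y ^ (ringExpChar (ResidueField R) ^ m) ∈ maximalIdeal R') := by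
  let K := FractionRing R
  let Kb := AlgebraicClosure K
  obtain ⟨ϖ, hϖ⟩ := IsDiscreteValuationRing.exists_irreducible R
  let q := ringExpChar (ResidueField R)
  obtain ⟨L, -, hmax⟩ := zorn_le_nonempty₀ {L : IntermediateField K Kb | Good K ϖ q L}
    (fun c hc hch y hy => ⟨sSup c, good_union c hch ⟨y, hy⟩ hc, fun z hz => le_sSup hz⟩) ⊥ (good_bot hϖ)
  have hL : Good K ϖ q L := hmax.1
  let Om := O R K Kb L
  haveI := isDVR_O hϖ hL
  haveI : Algebra.IsIntegral R Om := ⟨fun z => (isIntegral_algHom_iff Om.val Subtype.val_injective).1 (mem_O.1 z.2).1⟩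
  haveI : HenselianLocalRing Om := Groth.Agent.Hensel.henselianLocalRing_of_isIntegral_local R Om
  have hm := maximalIdeal_O hϖ hL
  refine ⟨Om, inferInstance, inferInstance, inferInstance, inferInstance, inferInstance,
    fun a b h => inj (K := K) (congrArg Subtype.val h), ?_, fun s => ?_, fun y => ?_, fun y => ?_⟩
  · rw [hm, hϖ.maximalIdeal_eq, Ideal.map_span, Set.image_singleton]
  · -- finite subextensions
    classical
    let L₁ : IntermediateField K Kb := IntermediateField.adjoin K ((fun x : Om => (x : Kb)) '' ↑s)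
    haveI : FiniteDimensional K L₁ := IntermediateField.finiteDimensional_adjoin (S := (fun x : Om => (x : Kb)) '' ↑s)
      fun x _ => (Algebra.IsAlgebraic.isAlgebraic (R := K) x).isIntegral
    have hL₁ : L₁ ≤ L := IntermediateField.adjoin_le_iff.2 (by rintro _ ⟨x, -, rfl⟩; exact (mem_O.1 x.2).2)
    let S : Subalgebra R Om := (O R K Kb L₁).comap Om.val
    let g : integralClosure R L₁ →ₗ[R] S :=
      { toFun := fun z => ⟨⟨((z : L₁) : Kb), mem_O.2 ⟨z.2.map (L₁.val.restrictScalars R), hL₁ (z : L₁).2⟩⟩,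
          mem_O.2 ⟨z.2.map (L₁.val.restrictScalars R), (z : L₁).2⟩⟩
        map_add' := fun _ _ => rfl
        map_smul' := fun r z => Subtype.ext (Subtype.ext (map_smul (L₁.val.restrictScalars R) r (z : L₁))) }
    have hg : Function.Surjective g := fun x => by
      obtain ⟨h1, h2⟩ := mem_O.1 (show ((x : Om) : Kb) ∈ O R K Kb L₁ from x.2)
      exact ⟨⟨⟨_, h2⟩, (isIntegral_algHom_iff (L₁.val.restrictScalars R) Subtype.val_injective).1 h1⟩, rfl⟩
    have hN : CAlg.IsN2 R := CompleteNagata.isN2_of_geomReduced R fun p _ => by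
      haveI : IsNoetherianRing (Localization.AtPrime (maximalIdeal R)) :=
        IsLocalization.isNoetherianRing (maximalIdeal R).primeCompl _ inferInstance
      exact FlatLoc6.geomReduced_of_geometricallyRegular ((PopescuLib.regular_cpl_of_ringEquiv
        (IsLocalization.atUnits R (maximalIdeal R).primeCompl
          (fun u hu => IsLocalRing.notMem_maximalIdeal.mp hu) : R ≃ₐ[R] Localization.AtPrime (maximalIdeal R)).symm.toRingEquiv
        (hR.2.2.1.2 (maximalIdeal R))).2 p).2
    haveI : Module.Finite R (integralClosure R L₁) := hN L₁ ‹_›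
    haveI : Module.Finite R S := Module.Finite.of_surjective g hg
    haveI hfree : Module.Free R S := by
      haveI : Module.IsTorsionFree R Kb := Module.IsTorsionFree.of_smul_eq_zero fun r x h => by
        rw [Algebra.smul_def, mul_eq_zero] at h
        exact h.imp_left fun h' => inj (K := K) (h'.trans (map_zero _).symm)
      haveI : Module.IsTorsionFree R S := Function.Injective.moduleIsTorsionFree (fun x : S => ((x : Om) : Kb))
        (Subtype.val_injective.comp Subtype.val_injective) (fun _ _ => rfl)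
      infer_instance
    refine ⟨S, fun x hx => mem_O.2 ⟨(mem_O.1 x.2).1, IntermediateField.subset_adjoin K _ ⟨x, hx, rfl⟩⟩,
      inferInstance, hfree, ?_⟩
    -- residue field
    let pS := Ideal.map (algebraMap R S) (maximalIdeal R)
    have hpS : pS = Ideal.span {algebraMap R S ϖ} := by
      show Ideal.map _ _ = _
      rw [hϖ.maximalIdeal_eq, Ideal.map_span, Set.image_singleton]
    have hπ0 : algebraMap R Kb ϖ ≠ 0 := (map_ne_zero_iff _ (inj (K := K))).2 hϖ.ne_zero
    haveI hSmax : pS.IsMaximal := by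
      rw [hpS]
      refine Ideal.isMaximal_iff.2 ⟨fun h1 => ?_, fun J x hJ hxn hxJ => ?_⟩
      · obtain ⟨z, hz⟩ := Ideal.mem_span_singleton.1 h1
        exact not_isUnit_uniformizer (K := K) hϖ (mem_O.1 ((z : Om).2)).1 (congrArg (fun w : S => ((w : Om) : Kb)) hz).symm
      · obtain ⟨hx1, hx2⟩ := mem_O.1 (show ((x : Om) : Kb) ∈ O R K Kb L₁ from x.2)
        rcases (hL _ (x : Om).2).1 with ⟨h1, h0⟩ | ⟨z, hz, h1⟩
        · let v : S := ⟨⟨((x : Om) : Kb)⁻¹, h1⟩, mem_O.2 ⟨(mem_O.1 h1).1, L₁.inv_mem hx2⟩⟩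
          have : x * v = 1 := Subtype.ext (Subtype.ext (mul_inv_cancel₀ h0))
          rw [← this]
          exact J.mul_mem_right v hxJ
        · refine absurd (Ideal.mem_span_singleton.2 ?_) hxn
          have hz2 : z ∈ L₁ := by
            rw [show z = (algebraMap R Kb ϖ)⁻¹ * ((x : Om) : Kb) by rw [h1, inv_mul_cancel_left₀ hπ0]]
            refine L₁.mul_mem (L₁.inv_mem ?_) hx2
            rw [IsScalarTower.algebraMap_apply R K Kb]
            exact L₁.algebraMap_mem _
          exact ⟨⟨⟨z, hz⟩, mem_O.2 ⟨(mem_O.1 hz).1, hz2⟩⟩, Subtype.ext (Subtype.ext h1)⟩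
    letI := Ideal.Quotient.field (maximalIdeal R)
    letI := Ideal.Quotient.field pS
    haveI : ExpChar (R ⧸ maximalIdeal R) q := ringExpChar.expChar (ResidueField R)
    haveI : IsPurelyInseparable (R ⧸ maximalIdeal R) (S ⧸ pS) := by
      refine (isPurelyInseparable_iff_pow_mem (R ⧸ maximalIdeal R) q).2 fun a => ?_
      obtain ⟨x, rfl⟩ := Ideal.Quotient.mk_surjective a
      obtain ⟨-, m, z, w, hw, h⟩ := hL _ (x : Om).2
      refine ⟨m, Ideal.Quotient.mk _ z, ?_⟩
      show Ideal.Quotient.mk pS (algebraMap R S z) = Ideal.Quotient.mk pS x ^ q ^ m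
      have hw2 : w ∈ L₁ := by
        rw [show w = (algebraMap R Kb ϖ)⁻¹ * (algebraMap R Kb z - ((x : Om) : Kb) ^ q ^ m) by
          rw [h, inv_mul_cancel_left₀ hπ0]]
        refine L₁.mul_mem (L₁.inv_mem ?_) (L₁.sub_mem ?_ (L₁.toSubalgebra.pow_mem (mem_O.1 (show ((x : Om) : Kb) ∈ O R K Kb L₁ from x.2)).2 _)) <;>
        · rw [IsScalarTower.algebraMap_apply R K Kb]
          exact L₁.algebraMap_mem _
      rw [← map_pow, Ideal.Quotient.mk_eq_mk_iff_sub_mem, hpS, Ideal.mem_span_singleton]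
      exact ⟨⟨⟨w, hw⟩, mem_O.2 ⟨(mem_O.1 hw).1, hw2⟩⟩, Subtype.ext (Subtype.ext h)⟩
    haveI : Module.Finite (R ⧸ maximalIdeal R) (S ⧸ pS) := Module.Finite.of_restrictScalars_finite R _ _
    obtain ⟨m, hm'⟩ := IsPurelyInseparable.finrank_eq_pow (R ⧸ maximalIdeal R) (S ⧸ pS) q
    exact ⟨m, (IsLocalRing.finrank_quotient_map (R := R) (S := S)).symm.trans hm'⟩
  · rcases expChar_is_prime_or_one (ResidueField R) q with hq | hq
    · by_contra hne
      push Not at hne
      obtain ⟨L', hlt, hL'⟩ := exists_bigger hϖ hq hL y y.2 fun z hz w hw h => hne ⟨z, hz⟩ (by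
        rw [hm, Ideal.mem_span_singleton]
        exact ⟨⟨w, hw⟩, Subtype.ext h⟩)
      exact hlt.ne (le_antisymm hlt.le (hmax.2 hL' hlt.le))
    · exact ⟨y, by simp [show ringExpChar (ResidueField R) = 1 from hq]⟩
  · obtain ⟨-, m, z, w, hw, h⟩ := hL y y.2
    exact ⟨m, z, by
      rw [hm, Ideal.mem_span_singleton]
      exact ⟨⟨w, hw⟩, Subtype.ext h⟩⟩

end Groth.Agent.H1PerfExt
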